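import Groth.Agent.EtSmDescent.Smooth
import Mathlib

/-!
Smooth morphisms have sections etale locally on the target.
-/

set_option autoImplicit false
set_option backward.isDefEq.respectTransparency false

universe u

open CategoryTheory CategoryTheory.Limits AlgebraicGeometry MvPolynomial
open Groth.Agent.EtSmDescent

namespace Groth.Agent.SmSect

theorem exists_etale_section {X S : Scheme.{u}} (f : X ⟶ S) [Smooth f] (x : X) :
    ∃ (S' : Scheme.{u}) (g : S' ⟶ S) (s' : S'), Etale g ∧ g s' = f x ∧ ∃ h : S' ⟶ X, h ≫ f = g := by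
  obtain ⟨Y₀, hY₀, V₀, hV₀, hv, eV, hstd⟩ := Smooth.exists_isStandardSmooth f x
  obtain ⟨n, g, hgC, hg⟩ := hstd.exists_etale_mvPolynomial
  let η : Spec Γ(X, V₀) ⟶ Spec (CommRingCat.of (MvPolynomial (Fin n) Γ(S, Y₀))) := Spec.map (CommRingCat.ofHom g)
  have : Etale η := by
    rw [HasRingHomProperty.Spec_iff (P := @Etale)]
    exact hg
  let π := affProj Γ(S, Y₀) n
  let iY := hY₀.fromSpec
  have hη : η ≫ π ≫ iY = hV₀.fromSpec ≫ f := by
    rw [← hY₀.SpecMap_appLE_fromSpec f hV₀ eV, ← Category.assoc, ← Spec.map_comp]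
    congr 1
    exact congrArg Spec.map (CommRingCat.hom_ext hgC)
  let q₀ : PrimeSpectrum (MvPolynomial (Fin n) Γ(S, Y₀)) := η (hV₀.primeIdealOf ⟨x, hv⟩)
  have hq₀ : iY (π q₀) = f x := by
    show (π ≫ iY) (η _) = _
    rw [← Scheme.Hom.comp_apply, hη, Scheme.Hom.comp_apply, hV₀.fromSpec_primeIdealOf]
  have hO : IsOpen (Set.range η) := η.isOpenMap.isOpen_range
  obtain ⟨_, ⟨g₀, rfl⟩, hg₀, hsub⟩ :=
    PrimeSpectrum.isTopologicalBasis_basic_opens.exists_subset_of_mem_open
      (show q₀ ∈ (Set.range η : Set (PrimeSpectrum _)) from ⟨_, rfl⟩) hO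
  let M := AlgebraicClosure q₀.asIdeal.ResidueField
  let β : MvPolynomial (Fin n) Γ(S, Y₀) →+* M :=
    (algebraMap q₀.asIdeal.ResidueField M).comp (algebraMap _ q₀.asIdeal.ResidueField)
  have hker : RingHom.ker β = q₀.asIdeal := by
    rw [RingHom.ker_comp_of_injective _ (algebraMap q₀.asIdeal.ResidueField M).injective,
      Ideal.ker_algebraMap_residueField]
  let : Algebra Γ(S, Y₀) M := (β.comp C).toAlgebra
  let G : MvPolynomial (Fin n) M := MvPolynomial.map (algebraMap Γ(S, Y₀) M) g₀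
  have hG : G ≠ 0 := by
    intro h0
    refine hg₀ (hker ▸ (?_ : β g₀ = 0))
    have hb : (eval fun j => β (MvPolynomial.X j)).comp (MvPolynomial.map (algebraMap Γ(S, Y₀) M)) = β :=
      MvPolynomial.ringHom_ext (fun a => by simp [RingHom.algebraMap_toAlgebra]) fun j => by simp
    rw [← DFunLike.congr_fun hb g₀]
    show eval _ G = 0
    rw [h0, map_zero]
  obtain ⟨R', _, _, _, φ', r, hφ', hGr⟩ := exists_etale_translate (R := Γ(S, Y₀)) (fun _ => (0 : M)) hG
  let σ : MvPolynomial (Fin n) Γ(S, Y₀) →+* R' := eval₂Hom (algebraMap Γ(S, Y₀) R') r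
  have hσ : φ' (σ g₀) = eval (fun i => (0 : M) + φ' (r i)) G := by
    have h1 : φ'.comp σ = (eval fun i => (0 : M) + φ' (r i)).comp (MvPolynomial.map (algebraMap Γ(S, Y₀) M)) :=
      MvPolynomial.ringHom_ext (fun a => by simp [σ, ← hφ']) fun j => by simp [σ]
    exact DFunLike.congr_fun h1 g₀
  let s₁ : PrimeSpectrum R' := ⟨RingHom.ker φ', RingHom.ker_isPrime _⟩
  let sg : Spec (CommRingCat.of R') ⟶ Spec (CommRingCat.of (MvPolynomial (Fin n) Γ(S, Y₀))) :=
    Spec.map (CommRingCat.ofHom σ)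
  let t : Spec (CommRingCat.of R') ⟶ Spec Γ(S, Y₀) := Spec.map (CommRingCat.ofHom (algebraMap Γ(S, Y₀) R'))
  have : Etale t := by
    rw [HasRingHomProperty.Spec_iff (P := @Etale)]
    exact RingHom.etale_algebraMap.2 ‹_›
  have ht : sg ≫ π = t := by
    simp only [sg, π, t, affProj, ← Spec.map_comp]
    congr 1
    exact CommRingCat.hom_ext (RingHom.ext fun a => eval₂Hom_C _ _ a)
  have hts : t s₁ = π q₀ := by
    refine PrimeSpectrum.ext ?_
    show (RingHom.ker φ').comap (algebraMap Γ(S, Y₀) R') = q₀.asIdeal.comap C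
    exact (RingHom.comap_ker φ' _).trans ((congrArg RingHom.ker hφ').trans
      ((RingHom.comap_ker β C).symm.trans (congrArg (Ideal.comap C) hker)))
  have hmem : sg s₁ ∈ Set.range η := hsub (by
    show g₀ ∉ (RingHom.ker φ').comap σ
    rw [Ideal.mem_comap, RingHom.mem_ker, hσ]
    exact hGr)
  obtain ⟨y, hy⟩ := hmem
  obtain ⟨z, hz, -⟩ := Scheme.Pullback.exists_preimage_pullback (f := sg) (g := η) s₁ y hy.symm
  refine ⟨pullback sg η, pullback.fst sg η ≫ t ≫ iY, z, inferInstance, ?_, pullback.snd sg η ≫ hV₀.fromSpec, ?_⟩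
  · rw [Scheme.Hom.comp_apply, hz, Scheme.Hom.comp_apply, hts, hq₀]
  · rw [Category.assoc, ← hη, ← ht]
    simp only [Category.assoc]
    rw [pullback.condition_assoc]

end Groth.Agent.SmSect
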